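import Groth.Agent.TateLoc.K892.TorExp
import Groth.Agent.TateLoc.K809.Les
import Groth.Agent.GrpSch.K267.DeligneSch

/-!
# Groups with `H^1_fppf` of finite exponent: stability properties
-/

set_option autoImplicit false
universe u
open CategoryTheory CategoryTheory.Limits AlgebraicGeometry Opposite MonoidalCategory MonObj

namespace K892.ExpMain

variable {k : Type u} [Field k]

/-- `H^1_fppf(k, G)` has finite exponent. -/
def Exp1 (G : Over (Spec (CommRingCat.of k))) [GrpObj G] [IsCommMonObj G] : Prop :=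
  ∃ n : ℕ, 0 < n ∧ ∀ x : BigSite.H Scheme.fppfPrecoverage (Spec (CommRingCat.of k))
    (CGrpSh.pts Scheme.fppfPrecoverage G) 1, n • x = 0

theorem exp1_iso {G H : Over (Spec (CommRingCat.of k))} [GrpObj G] [IsCommMonObj G] [GrpObj H] [IsCommMonObj H]
    (e : G ≅ H) [IsMonHom e.hom] (h : Exp1 G) : Exp1 H := by
  obtain ⟨n, hn, h⟩ := h
  refine ⟨n, hn, fun x => ?_⟩
  obtain ⟨y, rfl⟩ := (K809.Les.mpEquiv _ (K892.TorExp.ptsIso e) 1).surjective x
  rw [← map_nsmul, h, map_zero]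

theorem exp1_ext {G₁ G₂ G₃ : Over (Spec (CommRingCat.of k))} [GrpObj G₁] [IsCommMonObj G₁] [GrpObj G₂]
    [IsCommMonObj G₂] [GrpObj G₃] [IsCommMonObj G₃] (f : G₁ ⟶ G₂) (g : G₂ ⟶ G₃) [IsMonHom f] [IsMonHom g]
    (w : f ≫ g = 1) (hS : (CGrpSh.seq Scheme.fppfPrecoverage f g w).ShortExact) (h₁ : Exp1 G₁) (h₃ : Exp1 G₃) :
    Exp1 G₂ := by
  obtain ⟨n, hn, h₁⟩ := h₁
  obtain ⟨m, hm, h₃⟩ := h₃
  exact ⟨n * m, Nat.mul_pos hn hm, K809.Les.exponent_mid _ hS h₁ h₃⟩

/-- Finite commutative group schemes over a field are killed by a positive integer. -/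
theorem exists_nsmul_id (G : Over (Spec (CommRingCat.of k))) [GrpObj G] [IsCommMonObj G] [IsFinite G.hom] :
    ∃ n : ℕ, 0 < n ∧ n • 𝟙 (CGrpSh.pts Scheme.fppfPrecoverage G) = 0 := by
  have hfl : Flat G.hom := inferInstance
  have hfp : LocallyOfFinitePresentation G.hom := inferInstance
  let s₀ : Spec (CommRingCat.of k) := IsLocalRing.closedPoint k
  have hpos : 0 < Scheme.Hom.finrank G.hom s₀ := by
    have h1 := Scheme.Hom.one_le_finrank_map (f := G.hom) (η[G].left s₀)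
    rwa [Subsingleton.elim (G.hom (η[G].left s₀)) s₀] at h1
  refine ⟨_, hpos, ?_⟩
  have key : ∀ (T : Over (Spec (CommRingCat.of k))) (g : T ⟶ G), g ^ (Scheme.Hom.finrank G.hom s₀) = 1 :=
    fun T g => K267.DeligneSch.pow_eq_one G _ (fun s => by rw [Subsingleton.elim s s₀]) T g
  apply Sheaf.hom_ext
  apply NatTrans.ext
  funext T
  apply AddCommGrpCat.ext
  intro x
  let φ : (CGrpSh.pts Scheme.fppfPrecoverage G ⟶ CGrpSh.pts Scheme.fppfPrecoverage G) →+
      (CGrpSh.pts Scheme.fppfPrecoverage G).obj.obj T :=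
    AddMonoidHom.mk' (fun f => f.hom.app T x) (fun _ _ => rfl)
  have h1 : φ (Scheme.Hom.finrank G.hom s₀ • 𝟙 _) = Scheme.Hom.finrank G.hom s₀ • x := by
    rw [map_nsmul]
    rfl
  refine h1.trans ?_
  have h2 := key T.unop (ULift.down x : Additive (T.unop ⟶ G)).toMul
  have h3 : Scheme.Hom.finrank G.hom s₀ • (ULift.down x : Additive (T.unop ⟶ G)) = 0 := h2
  exact congrArg ULift.up h3

theorem exp1_fin (G : Over (Spec (CommRingCat.of k))) [GrpObj G] [IsCommMonObj G] [IsFinite G.hom] : Exp1 G := by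
  obtain ⟨n, hn, h⟩ := exists_nsmul_id G
  exact ⟨n, hn, K809.Les.nsmul_eq_zero _ h 1⟩

end K892.ExpMain
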