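import Groth.Agent.GaDual.K771.FppfGa
import Groth.Agent.TateLoc.K809.CaSmooth

/-!
# fppf cohomology of smooth commutative group schemes is étale cohomology
-/

set_option autoImplicit false
universe u
open CategoryTheory CategoryTheory.Limits AlgebraicGeometry Opposite

noncomputable section

namespace K892.EtFppfSm

open Groth.Agent

variable {X : Scheme.{u}} (G : Over X) [GrpObj G] [IsCommMonObj G] [Smooth G.hom] [IsSeparated G.hom]

theorem isZero_rightDerived (hAF : K809.AffNhd.AF G) (q : ℕ) (hq : 0 < q) :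
    IsZero (((EtFppf.aPush X).rightDerived q).obj (CGrpSh.pts Scheme.fppfPrecoverage G)) := by
  have := K771.FppfGa.aCont X
  have := Etrest.FppfExact.aPull_preservesFiniteLimits X
  exact Etrest.FppfMain.isZero_rightDerived_of_CA (EtFppf.aPush X) (fun α h => Etrest.FppfMain.epi_aPush α h)
    (K809.CaSmooth.ca_ptsPre G hAF) q hq

theorem nonempty_equiv (hAF : K809.AffNhd.AF G) (q : ℕ) :
    Nonempty (EtCoh.H X ((EtFppf.aPush X).obj (CGrpSh.pts Scheme.fppfPrecoverage G)) q ≃+
      BigSite.H Scheme.fppfPrecoverage X (CGrpSh.pts Scheme.fppfPrecoverage G) q) := by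
  obtain ⟨e⟩ := Etrest.RAcyc.nonempty_extAddEquiv (EtFppf.aAdj X)
    (Etrest.FppfExact.aPush_injective X) (G := CGrpSh.pts Scheme.fppfPrecoverage G) (isZero_rightDerived G hAF)
    ((constantSheaf X.smallEtaleTopology AddCommGrpCat.{u + 1}).obj (AddCommGrpCat.of (ULift ℤ))) q
  have e2 : Abelian.Ext ((EtFppf.aPull X).obj ((constantSheaf X.smallEtaleTopology AddCommGrpCat.{u + 1}).obj
      (AddCommGrpCat.of (ULift ℤ)))) (CGrpSh.pts Scheme.fppfPrecoverage G) q ≃+
      EtFppf.HF X (CGrpSh.pts Scheme.fppfPrecoverage G) q :=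
    (((Abelian.extFunctor q).mapIso
      (Etrest.FppfExact.constIso X (AddCommGrpCat.of (ULift ℤ))).symm.op).app
      (CGrpSh.pts Scheme.fppfPrecoverage G)).addCommGroupIsoToAddEquiv
  exact ⟨e.trans e2⟩

theorem af_of_affine {R : Type u} [CommRing R] (H : Over (Spec (CommRingCat.of R))) [IsAffine H.left] :
    K809.AffNhd.AF H :=
  fun _ _ _ _ => ⟨⊤, isAffineOpen_top _, fun _ _ => trivial, ⊤, isAffineOpen_top _, le_top⟩

end K892.EtFppfSm
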