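import Groth.Agent.TateLoc.K892.EtExp
import Groth.Agent.TateLoc.K892.EtFppfSm
import Groth.Agent.BddFin.K843.TorusMain

/-!
# `H^1_fppf(K, T)` has finite exponent for a torus `T`
-/

set_option autoImplicit false
universe u
open CategoryTheory CategoryTheory.Limits AlgebraicGeometry Opposite TensorProduct MonoidalCategory MonObj
open Groth.Agent.Sga3A Groth.Agent.Sga3A.MTBasis Groth.Agent.Books.AffBridge Groth.Agent.Sga3B

namespace K892.TorExp

variable {K : Type u} [Field K]

/-- Tori over a field split over a field extension. -/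
theorem exists_splitting {T : Over (Spec (CommRingCat.of K))} [GrpObj T] (h : Red.IsTorus T) :
    ∃ (r : ℕ) (L : Type u) (_ : Field L) (_ : Algebra K L),
      Red.IsSplitTorusWith (Fin r → ℤ) (Red.bc (Spec.map (CommRingCat.ofHom (algebraMap K L))) T) := by
  obtain ⟨S', f, hf, hs, hc, h⟩ := h
  obtain ⟨s', -⟩ := f.surjective (IsLocalRing.closedPoint K)
  obtain ⟨U, hU, r, hr⟩ := h s'
  let x : U.toScheme := ⟨s', hU⟩
  let q : Spec (U.toScheme.residueField x) ⟶ U.toScheme := U.toScheme.fromSpecResidueField x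
  let φ : K →+* U.toScheme.residueField x := (Spec.preimage (q ≫ U.ι ≫ f)).hom
  let := φ.toAlgebra
  have hφ : Spec.map (CommRingCat.ofHom (algebraMap K (U.toScheme.residueField x))) =
      q ≫ U.ι ≫ f := Spec.map_preimage _
  have h3 := TorusAlgClosed.isSplitTorusWith_bc q hr
  refine ⟨r, U.toScheme.residueField x, inferInstance, inferInstance, ?_⟩
  exact TorusBc.isSplitTorusWith_of_iso ((BcIso.bcCompIso q (U.ι ≫ f) T).symm ≪≫ BcIso.bcCongrIso hφ.symm T) h3

/-- Isomorphic group schemes have isomorphic sheaves of points. -/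
noncomputable def ptsIso {S : Scheme.{u}} {P : Precoverage Scheme.{u}} [(QuotSh.J P S).Subcanonical] {G H : Over S}
    [GrpObj G] [IsCommMonObj G] [GrpObj H] [IsCommMonObj H] (e : G ≅ H) [IsMonHom e.hom] :
    CGrpSh.pts P G ≅ CGrpSh.pts P H :=
  have : IsMonHom e.inv := inferInstance
  { hom := CGrpSh.ptsMap P e.hom
    inv := CGrpSh.ptsMap P e.inv
    hom_inv_id := by
      rw [← CGrpSh.ptsMap_comp]
      simp_rw [e.hom_inv_id]
      exact CGrpSh.ptsMap_id P
    inv_hom_id := by
      rw [← CGrpSh.ptsMap_comp]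
      simp_rw [e.inv_hom_id]
      exact CGrpSh.ptsMap_id P }

/-- Transport of commutativity along an isomorphism of group objects. -/
theorem isCommMonObj_of_iso {S : Scheme.{u}} {G H : Over S} [GrpObj G] [IsCommMonObj G] [GrpObj H] (e : G ≅ H)
    [IsMonHom e.hom] : IsCommMonObj H where
  mul_comm := by
    have h1 : (e.hom ⊗ₘ e.hom) ≫ μ[H] = μ[G] ≫ e.hom := (IsMonHom.mul_hom e.hom).symm
    rw [← cancel_epi (e.hom ⊗ₘ e.hom), BraidedCategory.braiding_naturality_assoc, h1,
      IsCommMonObj.mul_comm_assoc]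

/-- The exponent of `H^1` of a torus. -/
theorem exists_exponent (T : Over (Spec (CommRingCat.of K))) [GrpObj T] [IsCommMonObj T]
    (h : Red.IsTorus T) :
    ∃ n : ℕ, 0 < n ∧ ∀ x : BigSite.H Scheme.fppfPrecoverage (Spec (CommRingCat.of K))
      (CGrpSh.pts Scheme.fppfPrecoverage T) 1, n • x = 0 := by
  have h1 := TorusAlgClosed.isAffineHom_of_isTorus h
  have h2 := TorusAlgClosed.smooth_of_isTorus h
  have haff : IsAffine T.left := isAffine_of_isAffineHom T.hom
  obtain ⟨r, L', _, _, hL'⟩ := exists_splitting h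
  obtain ⟨A, _, _, e, he, L, _, _, hfin, hgal, ⟨g⟩⟩ := K843.TorusMain.exists_data T ⟨L', _, _, hL'⟩
  have hcomm : IsCommMonObj (SpecOver K A) := isCommMonObj_of_iso e
  obtain ⟨e'⟩ := EtFppfSm.nonempty_equiv T (EtFppfSm.af_of_affine T) 1
  refine ⟨Module.finrank K L, Module.finrank_pos, fun x => ?_⟩
  obtain ⟨y, rfl⟩ := e'.surjective x
  rw [← map_nsmul]
  have h3 : Module.finrank K L • y = 0 := by
    let e3 : (EtFppf.aPush (Spec (CommRingCat.of K))).obj (CGrpSh.pts Scheme.fppfPrecoverage T) ≅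
        K892.TorEt.Fet K A := (EtFppf.aPush _).mapIso (ptsIso e)
    let e2 : EtCoh.H (Spec (CommRingCat.of K))
        ((EtFppf.aPush (Spec (CommRingCat.of K))).obj (CGrpSh.pts Scheme.fppfPrecoverage T)) 1 ≃+
        EtCoh.H (Spec (CommRingCat.of K)) (K892.TorEt.Fet K A) 1 :=
      ((Abelian.extFunctorObj _ 1).mapIso e3).addCommGroupIsoToAddEquiv
    apply e2.injective
    rw [map_nsmul, map_zero]
    exact EtExp.nsmul_eq_zero_of_gbasis L g _
  rw [h3, map_zero]

end K892.TorExp
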