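import Groth.Agent.Sga3A.MTBasis
import Groth.Agent.Sga3B.Hens.Dict
import Mathlib.RingTheory.HopfAlgebra.Convolution
import Mathlib.RepresentationTheory.Homological.GroupCohomology.Hilbert90

/-!
# Points of a group which becomes diagonalizable, and Hilbert 90
-/

set_option autoImplicit false
open TensorProduct WithConv
open Groth.Agent.Sga3A Groth.Agent.Sga3A.MTBasis
open Groth.Agent.Sga3B.Hens.Dict

namespace K892.SplitPts

universe u

variable {K A L M N : Type u} [Field K] [CommRing A] [HopfAlgebra K A] [Field L] [Algebra K L] [CommGroup M]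
  (g : GBasis L (L ⊗[K] A) M) [CommRing N] [Algebra K N] [Algebra L N] [IsScalarTower K L N]

/-- Evaluation of the characters at a point. -/
noncomputable def ev (x : A →ₐ[K] N) (m : M) : N := ex L x (g.b m)

theorem ev_mul_right (x : A →ₐ[K] N) (m m' : M) : ev g x (m * m') = ev g x m * ev g x m' := by
  unfold ev
  rw [g.mul, map_mul]

theorem ev_one_right (x : A →ₐ[K] N) : ev g x 1 = 1 := by
  unfold ev
  rw [g.one, map_one]

theorem ev_mul_left (x y : WithConv (A →ₐ[K] N)) (m : M) :
    ev g (x * y).ofConv m = ev g x.ofConv m * ev g y.ofConv m := by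
  unfold ev
  rw [ex_conv]
  change (toConv (ex L x.ofConv) * toConv (ex L y.ofConv)) (g.b m) = _
  rw [AlgHom.convMul_apply, (g.gl m).comul_eq_tmul_self]
  simp

theorem ev_comp {N' : Type u} [CommRing N'] [Algebra K N'] [Algebra L N'] [IsScalarTower K L N']
    (σ : N →ₐ[L] N') (x : A →ₐ[K] N) (m : M) :
    ev g ((σ.restrictScalars K).comp x) m = σ (ev g x m) := by
  unfold ev
  have h : ex L ((σ.restrictScalars K).comp x) = σ.comp (ex L x) := by
    ext c
    simp
  rw [h]
  rfl

theorem ev_injective {x y : A →ₐ[K] N} (h : ∀ m, ev g x m = ev g y m) : x = y := by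
  have h1 : (ex L x).toLinearMap = (ex L y).toLinearMap := g.b.ext h
  ext a
  have h2 := DFunLike.congr_fun h1 ((1 : L) ⊗ₜ[K] a)
  simpa using h2

theorem exists_ev (χ : M →* N) : ∃ x : A →ₐ[K] N, ∀ m, ev g x m = χ m := by
  let e : L ⊗[K] A →ₐ[L] MonoidAlgebra L M := (g.bialgEquiv.symm : L ⊗[K] A ≃ₐc[L] MonoidAlgebra L M)
  refine ⟨res ((MonoidAlgebra.lift L N M χ).comp e), fun m => ?_⟩
  unfold ev
  rw [ex_res]
  have h1 : e (g.b m) = MonoidAlgebra.single m 1 := by
    have h := g.bialgEquiv.symm_apply_apply (MonoidAlgebra.single m (1 : L))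
    rw [g.bialgEquiv_single, one_smul] at h
    exact h
  rw [AlgHom.comp_apply, h1]
  simp

/-- The characters at a point as units. -/
noncomputable def evU (x : A →ₐ[K] N) : M →* Nˣ where
  toFun m := ⟨ev g x m, ev g x m⁻¹, by rw [← ev_mul_right, mul_inv_cancel, ev_one_right],
    by rw [← ev_mul_right, inv_mul_cancel, ev_one_right]⟩
  map_one' := by
    ext
    exact ev_one_right g x
  map_mul' m m' := by
    ext
    exact ev_mul_right g x m m'

theorem coe_evU (x : A →ₐ[K] N) (m : M) : (evU g x m : N) = ev g x m := rfl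

end K892.SplitPts
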