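import Groth.Agent.TateLoc.K892.TorEt
import Groth.Agent.CurvesA.EtFieldH

/-!
# A bound for the exponent of `H^1_et` of a field
-/

set_option autoImplicit false

universe u

open CategoryTheory Category Limits Opposite AlgebraicGeometry Abelian TensorProduct
open Groth.Agent.CurvesA Groth.Agent.CurvesA.EtFieldObj Groth.Agent.CurvesA.EtFieldDesc
  Groth.Agent.CurvesA.EtFieldTr
open Groth.Agent.Sga3A Groth.Agent.Sga3A.MTBasis Groth.Agent.Books.AffBridge

namespace K892.EtExp

variable {K : Type u} [Field K]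

theorem nsmul_eq_zero (F : EtCoh.Ab (Spec (CommRingCat.of K))) (L : Type u) [Field L] [Algebra K L]
    [FiniteDimensional K L] [IsGalois K L]
    (hF : ∀ (N : Type u) [Field N] [Algebra K N] [FiniteDimensional K N] [Algebra.IsSeparable K N]
      [Algebra L N] [IsScalarTower K L N], K892.H1Gal.CocTriv F L N) (x : Ext (ZL K K) F 1) :
    Module.finrank K L • x = 0 := by
  obtain ⟨S, hS, hx⟩ := SiteZU.exists_sieve_comp_eq_zero x
  obtain ⟨N₀, _, _, _, _, f, hf⟩ := exists_galois_mem S hS
  obtain ⟨M, _, _, _, _, ⟨φ⟩, ⟨ψ⟩⟩ := exists_galois (K := K) L N₀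
  let _ : Algebra L M := φ.toRingHom.toAlgebra
  have : IsScalarTower K L M := IsScalarTower.of_algebraMap_eq fun r => (φ.commutes r).symm
  have : FiniteDimensional L M := Module.Finite.right K L M
  have : IsGalois L M := IsGalois.tower_top_of_isGalois K L M
  obtain ⟨t, ht⟩ := exists_transfer (K := K) (L := K) (L' := L) (M := L)
  refine ExtStep.nsmul_eq_zero_of_transfer _ t _ ht F 1 x ?_
  refine K892.H1Gal.eq_zero_of_cocTriv F (hF M) _ ?_
  rw [ExtStep.res_res, ← Functor.map_comp, ← etMap_comp]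
  have h1 := hx _ _ (S.downward_closed hf (etMap ψ))
  obtain ⟨χ, hχ⟩ := exists_etMap_eq (etMap ψ ≫ f)
  rw [← hχ] at h1
  have h2 : χ = ((IsScalarTower.toAlgHom K L M).comp (IsScalarTower.toAlgHom K K L)) :=
    Subsingleton.elim _ _
  rw [← h2]
  exact h1

/-- For a torus split by a finite Galois extension `L/K`, `[L:K]` kills `H^1_et`. -/
theorem nsmul_eq_zero_of_gbasis {A : Type u} [CommRing A] [HopfAlgebra K A]
    [IsCommMonObj (SpecOver K A)] {n : ℕ} (L : Type u) [Field L] [Algebra K L]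
    [FiniteDimensional K L] [IsGalois K L]
    (g : GBasis L (L ⊗[K] A) (ULift.{u} (Multiplicative (Fin n → ℤ))))
    (x : EtCoh.H (Spec (CommRingCat.of K)) (K892.TorEt.Fet K A) 1) :
    Module.finrank K L • x = 0 := by
  apply (EtFieldH.HEquiv (K892.TorEt.Fet K A) 1).injective
  rw [map_nsmul, map_zero]
  exact nsmul_eq_zero _ L (fun N => K892.TorEt.cocTriv g) _

end K892.EtExp
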