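import Groth.Agent.CurvesA.EtFieldTr

/-!
# `H^1` of an étale sheaf on a field from Galois cocycles
-/

set_option autoImplicit false

universe u

open CategoryTheory Category Limits Opposite AlgebraicGeometry Abelian
open Groth.Agent.CurvesA Groth.Agent.CurvesA.EtFieldObj Groth.Agent.CurvesA.EtFieldDesc
  Groth.Agent.CurvesA.EtFieldTr

namespace K892.H1Gal

variable {K : Type u} [Field K] {L N : Type u} [Field L] [Algebra K L] [FiniteDimensional K L]
  [Algebra.IsSeparable K L] [Field N] [Algebra K N] [FiniteDimensional K N]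
  [Algebra.IsSeparable K N] [Algebra L N] [IsScalarTower K L N]

/-- Galois 1-cocycles with values in `F` are coboundaries. -/
def CocTriv (F : EtCoh.Ab (Spec (CommRingCat.of K))) (L N : Type u) [Field L] [Algebra K L]
    [Field N] [Algebra K N] [FiniteDimensional K N]
    [Algebra.IsSeparable K N] [Algebra L N] [IsScalarTower K L N] : Prop :=
  ∀ c : (N ≃ₐ[L] N) → F.obj.obj (op (etObj K N)),
    (∀ σ τ, c (σ * τ) = c σ + F.obj.map (aut (K := K) σ).op (c τ)) →
      ∃ t, ∀ σ, c σ = F.obj.map (aut (K := K) σ).op t - t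

theorem eq_zero_of_cocTriv (F : EtCoh.Ab (Spec (CommRingCat.of K))) [IsGalois L N]
    (hF : CocTriv F L N) (x : Ext (ZL K L) F 1) (hx : ExtStep.res (Zm (can K L N)) F 1 x = 0) :
    x = 0 := by
  let S : ShortComplex (EtCoh.Ab (Spec (CommRingCat.of K))) :=
    ShortComplex.mk (Injective.ι F) (cokernel.π (Injective.ι F)) (cokernel.condition _)
  have hS : S.ShortExact :=
    { exact := ShortComplex.exact_cokernel _
      mono_f := inferInstanceAs (Mono (Injective.ι F))
      epi_g := inferInstanceAs (Epi (cokernel.π (Injective.ι F))) }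
  have hinj : Injective S.X₂ := inferInstanceAs (Injective (Injective.under F))
  obtain ⟨y, hy⟩ := Ext.covariant_sequence_exact₁ (ZL K L) hS x (Ext.eq_zero_of_injective _) rfl
  obtain ⟨φ, rfl⟩ := Ext.mk₀_bijective _ _ |>.2 y
  have h1 : (Ext.mk₀ (Zm (can K L N) ≫ φ)).comp hS.extClass (zero_add 1) = 0 := by
    rw [ExtStep.res_apply, ← hy, Ext.mk₀_comp_mk₀_assoc] at hx
    exact hx
  obtain ⟨i', hi'⟩ := Ext.covariant_sequence_exact₃ (ZL K N) hS (Ext.mk₀ (Zm (can K L N) ≫ φ)) rfl h1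
  obtain ⟨i, rfl⟩ := Ext.mk₀_bijective _ _ |>.2 i'
  rw [Ext.mk₀_comp_mk₀] at hi'
  have hi : i ≫ S.g = Zm (can K L N) ≫ φ := (Ext.mk₀_bijective _ _).1 hi'
  have hm : Mono S.f := hS.mono_f
  have hlift : ∀ σ : N ≃ₐ[L] N, ∃ b : ZL K N ⟶ F, b ≫ S.f = Zm (aut (K := K) σ) ≫ i - i := by
    intro σ
    refine ⟨hS.exact.lift (Zm (aut (K := K) σ) ≫ i - i) ?_, hS.exact.lift_f _ _⟩
    rw [Preadditive.sub_comp, Category.assoc, hi, ← Category.assoc, ← Functor.map_comp, aut_can, sub_self]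
  choose b hb using hlift
  have hcoc : ∀ σ τ : N ≃ₐ[L] N, b (σ * τ) = b σ + Zm (aut (K := K) σ) ≫ b τ := by
    intro σ τ
    have hZ : Zm (aut (K := K) (σ * τ)) = Zm (aut (K := K) σ) ≫ Zm (aut (K := K) τ) := by
      rw [← Functor.map_comp, ← aut_mul]
    rw [← cancel_mono S.f, Preadditive.add_comp, Category.assoc, hb, hb, hb, Preadditive.comp_sub,
      hZ, Category.assoc]
    abel
  obtain ⟨t, ht⟩ := hF (fun σ => SiteZU.ev (b σ)) (fun σ τ => by
    rw [hcoc, map_add, SiteZU.ev_map_comp])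
  have ht' : ∀ σ, b σ = Zm (aut (K := K) σ) ≫ SiteZU.lift.{u + 1} t - SiteZU.lift.{u + 1} t := by
    intro σ
    apply SiteZU.ev_injective
    rw [map_sub, SiteZU.ev_map_comp, SiteZU.ev_lift]
    exact ht σ
  obtain ⟨j, hj⟩ := exists_descent_hom (L := L) (i - SiteZU.lift.{u + 1} t ≫ S.f) (fun σ => by
    have h2 := hb σ
    rw [ht', Preadditive.sub_comp, Category.assoc] at h2
    rw [Preadditive.comp_sub]
    rw [sub_eq_sub_iff_add_eq_add] at h2 ⊢
    rw [add_comm i, h2])
  have hjg : j ≫ S.g = φ := by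
    rw [← cancel_epi (Zm (can K L N)), ← Category.assoc, hj, Preadditive.sub_comp, Category.assoc, S.zero,
      comp_zero, sub_zero, hi]
  rw [← hy, ← hjg, ← Ext.mk₀_comp_mk₀, Ext.comp_assoc_of_second_deg_zero, hS.comp_extClass, Ext.comp_zero]

end K892.H1Gal
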