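import Groth.Agent.TateLoc.K892.SplitPts

/-!
# Hilbert 90 for the points of a torus over a splitting field
-/

set_option autoImplicit false
open TensorProduct WithConv
open Groth.Agent.Sga3A Groth.Agent.Sga3A.MTBasis
open Groth.Agent.Sga3B.Hens.Dict

namespace K892.TorCoc

universe u

open K892.SplitPts

/-- The generators of the free group. -/
def gn {n : ℕ} (j : Fin n) : ULift.{u} (Multiplicative (Fin n → ℤ)) :=
  ULift.up (Multiplicative.ofAdd (Pi.single j 1))

theorem hom_ext_gn {n : ℕ} {G : Type*} [CommGroup G] {χ χ' : ULift.{u} (Multiplicative (Fin n → ℤ)) →* G}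
    (h : ∀ j, χ (gn j) = χ' (gn j)) : χ = χ' := by
  let a : (Fin n → ℤ) →+ Additive G :=
    { toFun := fun v => Additive.ofMul (χ (ULift.up (Multiplicative.ofAdd v)))
      map_zero' := χ.map_one
      map_add' := fun v w => χ.map_mul _ _ }
  let a' : (Fin n → ℤ) →+ Additive G :=
    { toFun := fun v => Additive.ofMul (χ' (ULift.up (Multiplicative.ofAdd v)))
      map_zero' := χ'.map_one
      map_add' := fun v w => χ'.map_mul _ _ }
  have h1 : a = a' := by
    apply AddMonoidHom.functions_ext
    intro j z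
    have h2 : (Pi.single j z : Fin n → ℤ) = z • Pi.single j 1 := by
      rw [← Pi.single_smul, smul_eq_mul, mul_one]
    rw [h2, map_zsmul, map_zsmul]
    congr 1
    exact h j
  ext m
  exact DFunLike.congr_fun h1 (Multiplicative.toAdd m.down)

theorem exists_hom {n : ℕ} {G : Type*} [CommGroup G] (v : Fin n → G) :
    ∃ χ : ULift.{u} (Multiplicative (Fin n → ℤ)) →* G, ∀ j, χ (gn j) = v j := by
  classical
  refine ⟨{ toFun := fun m => ∏ j, v j ^ (Multiplicative.toAdd m.down j)
            map_one' := ?_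
            map_mul' := ?_ }, ?_⟩
  · refine Finset.prod_eq_one fun j _ => ?_
    exact zpow_zero _
  · intro m m'
    rw [← Finset.prod_mul_distrib]
    refine Finset.prod_congr rfl fun j _ => ?_
    exact zpow_add _ _ _
  · intro j
    change ∏ i, v i ^ (Pi.single j (1 : ℤ) : Fin n → ℤ) i = v j
    rw [Finset.prod_eq_single j]
    · rw [Pi.single_eq_same, zpow_one]
    · intro i _ hi
      rw [Pi.single_eq_of_ne hi, zpow_zero]
    · intro h
      exact absurd (Finset.mem_univ j) h

variable {K A L : Type u} [Field K] [CommRing A] [HopfAlgebra K A] [Field L] [Algebra K L] {n : ℕ}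
  (g : GBasis L (L ⊗[K] A) (ULift.{u} (Multiplicative (Fin n → ℤ)))) {N : Type u} [Field N] [Algebra K N]
  [Algebra L N] [IsScalarTower K L N] [FiniteDimensional L N]

include g in
open groupCohomology in
theorem exists_cob (c : (N ≃ₐ[L] N) → WithConv (A →ₐ[K] N))
    (hc : ∀ σ τ, c (σ * τ) = c σ * toConv ((((σ : N →ₐ[L] N)).restrictScalars K).comp (c τ).ofConv)) :
    ∃ t : WithConv (A →ₐ[K] N), ∀ σ : N ≃ₐ[L] N,
      c σ * t = toConv ((((σ : N →ₐ[L] N)).restrictScalars K).comp t.ofConv) := by
  have hev : ∀ (σ : N ≃ₐ[L] N) (x : WithConv (A →ₐ[K] N)) m,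
      evU g (((σ : N →ₐ[L] N).restrictScalars K).comp x.ofConv) m = σ • evU g x.ofConv m := by
    intro σ x m
    ext
    exact ev_comp g (σ : N →ₐ[L] N) x.ofConv m
  have hmul : ∀ (x y : WithConv (A →ₐ[K] N)) m, evU g (x * y).ofConv m = evU g x.ofConv m * evU g y.ofConv m := by
    intro x y m
    ext
    exact ev_mul_left g x y m
  have hcob : ∀ j : Fin n, ∃ v : Nˣ, ∀ σ : N ≃ₐ[L] N, σ • v / v = evU g (c σ).ofConv (gn j) := by
    intro j
    exact isMulCoboundary₁_of_isMulCocycle₁_of_aut_to_units (fun σ => evU g (c σ).ofConv (gn j))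
      (fun σ τ => by
        change evU g (c (σ * τ)).ofConv (gn j) = _
        rw [hc, hmul, mul_comm]
        congr 1
        exact hev σ (c τ) (gn j))
  choose v hv using hcob
  obtain ⟨χ, hχ⟩ := exists_hom v
  obtain ⟨t, ht⟩ := exists_ev g ((Units.coeHom N).comp χ)
  refine ⟨toConv t, fun σ => ?_⟩
  have ht' : ∀ m, evU g t m = χ m := fun m => Units.ext (ht m)
  have key : evU g (c σ).ofConv * evU g t = (MulDistribMulAction.toMonoidHom Nˣ σ).comp χ := by
    apply hom_ext_gn
    intro j
    rw [MonoidHom.mul_apply, ← hv j σ, ht', hχ]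
    change σ • v j / v j * v j = σ • χ (gn j)
    rw [hχ, div_mul_cancel]
  apply WithConv.ofConv_injective
  apply ev_injective g
  intro m
  have h1 := hmul (c σ) (toConv t) m
  have h2 := DFunLike.congr_fun key m
  have h3 := hev σ (toConv t) m
  rw [← coe_evU, ← coe_evU, h1]
  change ((evU g (c σ).ofConv m * evU g t m : Nˣ) : N) =
    (evU g (((σ : N →ₐ[L] N).restrictScalars K).comp t) m : N)
  have h4 : evU g (((σ : N →ₐ[L] N).restrictScalars K).comp t) m = σ • evU g t m := h3
  rw [h4, ht']
  have h5 : evU g (c σ).ofConv m * evU g t m = σ • χ m := h2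
  rw [ht'] at h5
  rw [h5]

end K892.TorCoc
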