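import Groth.Agent.TateLoc.K892.TorCoc
import Groth.Agent.TateLoc.K892.H1Gal
import Groth.Agent.Sga3B.RG.BrPts
import Groth.Prelude.Def_CGrpSh
import Groth.Prelude.Def_EtFppf

/-!
# The étale sheaf of points of a torus: Galois cocycles are trivial over a splitting field
-/

set_option autoImplicit false
open TensorProduct WithConv
open Groth.Agent.Sga3A Groth.Agent.Sga3A.MTBasis
open Groth.Agent.Sga3B.Hens.Dict
open CategoryTheory Category Limits Opposite AlgebraicGeometry Abelian
open Groth.Agent.CurvesA Groth.Agent.CurvesA.EtFieldObj Groth.Agent.CurvesA.EtFieldDesc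
  Groth.Agent.CurvesA.EtFieldTr Groth.Agent.Books.AffBridge

universe u

namespace K892.TorEt

variable {K : Type u} [Field K] {A : Type u} [CommRing A] [HopfAlgebra K A] [IsCommMonObj (SpecOver K A)]

section

variable (K) (N : Type u) [Field N] [Algebra K N] [FiniteDimensional K N] [Algebra.IsSeparable K N]

theorem a_obj : (EtFppf.a (Spec (CommRingCat.of K))).obj (etObj K N) = SpecOver K N := rfl

end

/-- The étale sheaf of points. -/
noncomputable abbrev Fet (K : Type u) [Field K] (A : Type u) [CommRing A] [HopfAlgebra K A]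
    [IsCommMonObj (SpecOver K A)] : EtCoh.Ab (Spec (CommRingCat.of K)) :=
  (EtFppf.aPush (Spec (CommRingCat.of K))).obj (CGrpSh.pts Scheme.fppfPrecoverage (SpecOver K A))

/-- Sections over a field as points of the Hopf algebra. -/
noncomputable def sec (N : Type u) [Field N] [Algebra K N] [FiniteDimensional K N]
    [Algebra.IsSeparable K N] (s : (Fet K A).obj.obj (op (etObj K N))) : WithConv (A →ₐ[K] N) :=
  toConv (specPreimage K (ULift.down s : Additive (SpecOver K N ⟶ SpecOver K A)).toMul)

section

variable {N : Type u} [Field N] [Algebra K N] [FiniteDimensional K N] [Algebra.IsSeparable K N]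

theorem specMap_sec (s : (Fet K A).obj.obj (op (etObj K N))) :
    specMap K (sec N s).ofConv = (ULift.down s : Additive (SpecOver K N ⟶ SpecOver K A)).toMul :=
  specMap_specPreimage K _

theorem sec_injective {s t : (Fet K A).obj.obj (op (etObj K N))} (h : sec N s = sec N t) : s = t := by
  apply ULift.ext
  have h1 := specMap_sec s
  rw [h, specMap_sec] at h1
  exact h1.symm

theorem exists_sec (x : WithConv (A →ₐ[K] N)) : ∃ s : (Fet K A).obj.obj (op (etObj K N)), sec N s = x := by
  refine ⟨(ULift.up (Additive.ofMul (specMap K x.ofConv)) :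
    ULift.{u + 1} (Additive (SpecOver K N ⟶ SpecOver K A))), ?_⟩
  apply WithConv.ofConv_injective
  exact specPreimage_specMap K x.ofConv

theorem sec_add (s t : (Fet K A).obj.obj (op (etObj K N))) : sec N (s + t) = sec N s * sec N t := by
  apply WithConv.ofConv_injective
  apply specMap_injective K
  rw [specMap_sec, specMap_mul, specMap_sec, specMap_sec]
  rfl

theorem sec_map {N' : Type u} [Field N'] [Algebra K N'] [FiniteDimensional K N'] [Algebra.IsSeparable K N']
    (φ : N →ₐ[K] N') (s : (Fet K A).obj.obj (op (etObj K N))) :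
    sec N' ((Fet K A).obj.map (etMap φ).op s) = toConv (φ.comp (sec N s).ofConv) := by
  apply WithConv.ofConv_injective
  apply specMap_injective K
  rw [specMap_sec]
  change _ = specMap K (φ.comp (sec N s).ofConv)
  rw [specMap_comp, specMap_sec]
  rfl

theorem cocTriv {n : ℕ} {L : Type u} [Field L] [Algebra K L]
    (g : GBasis L (L ⊗[K] A) (ULift.{u} (Multiplicative (Fin n → ℤ))))
    [Algebra L N] [IsScalarTower K L N] : K892.H1Gal.CocTriv (Fet K A) L N := by
  have : FiniteDimensional L N := Module.Finite.right K L N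
  intro c hc
  obtain ⟨t, ht⟩ := K892.TorCoc.exists_cob g (N := N) (fun σ => sec N (c σ)) (fun σ τ => by
    rw [hc, sec_add, sec_map]
    rfl)
  obtain ⟨t, rfl⟩ := exists_sec t
  refine ⟨t, fun σ => ?_⟩
  rw [eq_sub_iff_add_eq]
  apply sec_injective
  rw [sec_add, ht, sec_map]
  rfl

end

end K892.TorEt
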